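import Cfsg.Agent.Lib.WtSpace.Basic
import Mathlib

/-!
The Weyl operators on functions on `F^n` (`q` odd), and the existence of intertwiners for the symplectic group.
-/

set_option autoImplicit false
set_option linter.unusedSectionVars false
set_option linter.unusedVariables false
set_option linter.unusedSimpArgs false
set_option linter.ambiguousOpen false
set_option linter.style.haveILetI false

namespace Cfsg.Agent.Lib.Weil.Basic

open Module Matrix Cfsg.Agent.Lib.WtSpace.Basic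
open scoped _root_.Classical

variable {F : Type*} [Field F] [Fintype F] {n : ℕ}

/-- The space of the Weil representation. -/
abbrev WS (F : Type*) (n : ℕ) := (Fin n → F) → ℂ

/-- The symplectic space. -/
abbrev WV (F : Type*) (n : ℕ) := Fin n ⊕ Fin n → F

/-- The first component. -/
def wa (v : WV F n) : Fin n → F := fun i => v (Sum.inl i)

/-- The second component. -/
def wb (v : WV F n) : Fin n → F := fun i => v (Sum.inr i)

/-- The vector `(a, 0)`. -/
def inL (a : Fin n → F) : WV F n := Sum.elim a 0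

/-- The vector `(0, b)`. -/
def inR (b : Fin n → F) : WV F n := Sum.elim 0 b

@[simp] lemma wa_inL (a : Fin n → F) : wa (inL a) = a := rfl
@[simp] lemma wb_inL (a : Fin n → F) : wb (inL a) = 0 := rfl
@[simp] lemma wa_inR (a : Fin n → F) : wa (inR a) = 0 := rfl
@[simp] lemma wb_inR (a : Fin n → F) : wb (inR a) = a := rfl
@[simp] lemma wa_add (v v' : WV F n) : wa (v + v') = wa v + wa v' := rfl
@[simp] lemma wb_add (v v' : WV F n) : wb (v + v') = wb v + wb v' := rfl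
@[simp] lemma wa_neg (v : WV F n) : wa (-v) = - wa v := rfl
@[simp] lemma wb_neg (v : WV F n) : wb (-v) = - wb v := rfl
@[simp] lemma wa_zero : wa (0 : WV F n) = 0 := rfl
@[simp] lemma wb_zero : wb (0 : WV F n) = 0 := rfl

lemma inL_add (a b : Fin n → F) : inL (a + b) = inL a + inL b := by
  funext i
  cases i <;> simp [inL]

lemma inR_add (a b : Fin n → F) : inR (a + b) = inR a + inR b := by
  funext i
  cases i <;> simp [inR]

lemma inL_zero : inL (0 : Fin n → F) = 0 := by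
  funext i
  cases i <;> simp [inL]

lemma inR_zero : inR (0 : Fin n → F) = 0 := by
  funext i
  cases i <;> simp [inR]

lemma v_eq (v : WV F n) : v = inL (wa v) + inR (wb v) := by
  funext i
  cases i <;> simp [inL, inR, wa, wb]

/-- The symplectic form. -/
def om (v v' : WV F n) : F := wb v ⬝ᵥ wa v' - wa v ⬝ᵥ wb v'

lemma om_add_left (v v' w : WV F n) : om (v + v') w = om v w + om v' w := by
  simp only [om, wa_add, wb_add, add_dotProduct]
  ring

lemma om_add_right (v v' w : WV F n) : om w (v + v') = om w v + om w v' := by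
  simp only [om, wa_add, wb_add, dotProduct_add]
  ring

lemma om_comm (v v' : WV F n) : om v' v = - om v v' := by
  simp only [om, dotProduct_comm (wb v') (wa v), dotProduct_comm (wa v') (wb v)]
  ring

lemma om_self (v : WV F n) : om v v = 0 := by
  simp only [om, dotProduct_comm (wb v) (wa v)]
  ring

lemma om_eq (v v' : WV F n) : om v v' = v ⬝ᵥ (Matrix.J (Fin n) F *ᵥ v') := by
  have h : Matrix.J (Fin n) F *ᵥ v' = Sum.elim (- wb v') (wa v') := by
    funext i
    cases i with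
    | inl i =>
      simp [Matrix.J, Matrix.mulVec, dotProduct, Fintype.sum_sum_type, wb, Matrix.one_apply]
    | inr i =>
      simp [Matrix.J, Matrix.mulVec, dotProduct, Fintype.sum_sum_type, wa, Matrix.one_apply]
  rw [h]
  simp only [om, dotProduct, Fintype.sum_sum_type, Sum.elim_inl, Sum.elim_inr, wa, wb, Pi.neg_apply, mul_neg,
    Finset.sum_neg_distrib]
  ring

/-- Symplectic matrices preserve the form. -/
lemma om_sp (g : Matrix.symplecticGroup (Fin n) F) (v v' : WV F n) :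
    om (g.1 *ᵥ v) (g.1 *ᵥ v') = om v v' := by
  have h := SymplecticGroup.mem_iff'.mp g.2
  have h1 : ∀ x y : WV F n, (g.1 *ᵥ x) ⬝ᵥ y = x ⬝ᵥ (g.1ᵀ *ᵥ y) := by
    intro x y
    rw [Matrix.dotProduct_mulVec, Matrix.vecMul_transpose]
  rw [om_eq, om_eq, h1, Matrix.mulVec_mulVec, Matrix.mulVec_mulVec, h]

/-- One half. -/
noncomputable def hh (F : Type*) [Field F] : F := (2 : F)⁻¹

lemma hh_add (h2 : (2 : F) ≠ 0) : hh F + hh F = 1 := by
  unfold hh
  field_simp
  norm_num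

variable (ψ : AddChar F ℂ)

/-- The Weyl operators. -/
noncomputable def rr (v : WV F n) : Module.End ℂ (WS F n) where
  toFun φ := fun x => ψ (x ⬝ᵥ wa v + hh F * (wa v ⬝ᵥ wb v)) * φ (x + wb v)
  map_add' φ φ' := by
    funext x
    simp [mul_add]
  map_smul' c φ := by
    funext x
    simp only [Pi.smul_apply, smul_eq_mul, RingHom.id_apply]
    ring

lemma rr_apply (v : WV F n) (φ : WS F n) (x : Fin n → F) :
    rr ψ v φ x = ψ (x ⬝ᵥ wa v + hh F * (wa v ⬝ᵥ wb v)) * φ (x + wb v) := rfl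

lemma rr_inL_apply (a : Fin n → F) (φ : WS F n) (x : Fin n → F) : rr ψ (inL a) φ x = ψ (x ⬝ᵥ a) * φ x := by
  simp [rr_apply]

lemma rr_inR_apply (b : Fin n → F) (φ : WS F n) (x : Fin n → F) : rr ψ (inR b) φ x = φ (x + b) := by
  simp [rr_apply]

lemma rr_zero : rr ψ (0 : WV F n) = 1 := by
  apply LinearMap.ext
  intro φ
  funext x
  simp [rr_apply]

variable (h2 : (2 : F) ≠ 0)

include h2

lemma rr_mul (v v' : WV F n) : rr ψ v * rr ψ v' = ψ (hh F * om v v') • rr ψ (v + v') := by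
  apply LinearMap.ext
  intro φ
  funext x
  show rr ψ v (rr ψ v' φ) x = ψ (hh F * om v v') * rr ψ (v + v') φ x
  rw [rr_apply, rr_apply, rr_apply]
  simp only [wa_add, wb_add]
  rw [← add_assoc x, ← mul_assoc, ← AddChar.map_add_eq_mul, ← mul_assoc, ← AddChar.map_add_eq_mul]
  congr 2
  have h := hh_add h2
  simp only [om, dotProduct_add, add_dotProduct]
  rw [dotProduct_comm (wa v') (wb v)]
  linear_combination (-(wb v ⬝ᵥ wa v')) * h

lemma rr_comm (v v' : WV F n) : rr ψ v * rr ψ v' = ψ (om v v') • (rr ψ v' * rr ψ v) := by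
  rw [rr_mul ψ h2, rr_mul ψ h2 v' v, add_comm v' v, smul_smul, ← AddChar.map_add_eq_mul, om_comm v v']
  congr 2
  have h := hh_add h2
  linear_combination (om v v') * h

lemma rr_neg (v : WV F n) : rr ψ v * rr ψ (-v) = 1 := by
  have : om v (-v) = 0 := by
    simp only [om, wa_neg, wb_neg, dotProduct_neg]
    rw [dotProduct_comm (wb v) (wa v)]
    ring
  rw [rr_mul ψ h2, this, add_neg_cancel, rr_zero]
  simp

lemma rr_neg' (v : WV F n) : rr ψ (-v) * rr ψ v = 1 := by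
  have := rr_neg ψ h2 (-v)
  rwa [neg_neg] at this

lemma rr_inj (v : WV F n) : Function.Injective (rr ψ v) := by
  have h : ∀ x, rr ψ (-v) (rr ψ v x) = x := fun x => LinearMap.congr_fun (rr_neg' ψ h2 v) x
  exact Function.LeftInverse.injective h

omit h2 in
/-- The orthogonality relation. -/
lemma sum_char (hψ : ψ 1 ≠ 1) (y : Fin n → F) (hy : y ≠ 0) : ∑ a : Fin n → F, ψ (y ⬝ᵥ a) = 0 := by
  obtain ⟨i, hi⟩ : ∃ i, y i ≠ 0 := by
    by_contra hcon
    push Not at hcon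
    exact hy (funext hcon)
  have h1 : y ⬝ᵥ (Pi.single i (y i)⁻¹) = 1 := by
    simp [hi]
  have h := Equiv.sum_comp (Equiv.addRight (Pi.single i (y i)⁻¹ : Fin n → F)) (fun a => ψ (y ⬝ᵥ a))
  have h3 : ∀ a : Fin n → F, ψ (y ⬝ᵥ (Equiv.addRight (Pi.single i (y i)⁻¹ : Fin n → F) a)) = ψ (y ⬝ᵥ a) * ψ 1 := by
    intro a
    simp only [Equiv.coe_addRight, dotProduct_add, AddChar.map_add_eq_mul, h1]
  simp only [h3, ← Finset.sum_mul] at h
  have h4 : (∑ a : Fin n → F, ψ (y ⬝ᵥ a)) * (ψ 1 - 1) = 0 := by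
    linear_combination h
  exact (mul_eq_zero.mp h4).resolve_right (sub_ne_zero.mpr hψ)

omit h2 in
lemma sum_char_self : ∑ a : Fin n → F, ψ ((0 : Fin n → F) ⬝ᵥ a) = Fintype.card (Fin n → F) := by
  simp

omit h2 in
/-- The pairing on `F^n`. -/
lemma pairing_dot (hψ : ψ 1 ≠ 1) : Pairing (fun (c a : Fin n → F) => ψ (a ⬝ᵥ c)) where
  add x a b := by
    simp [add_dotProduct, AddChar.map_add_eq_mul]
  zero x := by
    simp
  orth a ha := sum_char ψ hψ a ha
  card := rfl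

/-- The basis vectors. -/
noncomputable def dl (x : Fin n → F) : WS F n := Pi.single x 1

omit h2 in
lemma dl_apply (x y : Fin n → F) : dl x y = if y = x then 1 else 0 := by
  simp [dl, Pi.single_apply]

omit h2 in
lemma dl_ne (x : Fin n → F) : dl x ≠ (0 : WS F n) := by
  intro h
  have := congrFun h x
  simp [dl_apply] at this

omit h2 in
/-- The vector `dl 0` is fixed by the modulations. -/
lemma rr_inL_dl0 (a : Fin n → F) : rr ψ (inL a) (dl 0) = dl 0 := by
  funext x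
  rw [rr_inL_apply, dl_apply]
  by_cases hx : x = 0
  · simp [hx]
  · simp [hx]

omit h2 in
lemma rr_inL_dl (a x : Fin n → F) : rr ψ (inL a) (dl x) = ψ (x ⬝ᵥ a) • dl x := by
  funext y
  rw [rr_inL_apply, dl_apply]
  by_cases hy : y = x
  · simp [hy, dl_apply]
  · simp [hy, dl_apply]

omit h2 in
lemma rr_inR_dl (b x : Fin n → F) : rr ψ (inR b) (dl x) = dl (x - b) := by
  funext y
  rw [rr_inR_apply, dl_apply, dl_apply]
  by_cases hy : y + b = x
  · have : y = x - b := by rw [← hy]; simp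
    simp [hy, this]
  · have : y ≠ x - b := by
      intro h
      apply hy
      rw [h]
      simp
    simp [hy, this]

omit h2 in
lemma eq_sum_dl (φ : WS F n) : φ = ∑ x, φ x • dl x := by
  funext y
  simp only [Finset.sum_apply, Pi.smul_apply, smul_eq_mul, dl_apply]
  simp

/-- An operator commuting with the Weyl operators is a scalar. -/
theorem commutant (hψ : ψ 1 ≠ 1) (Y : Module.End ℂ (WS F n)) (hY : ∀ v, Y * rr ψ v = rr ψ v * Y) :
    ∃ c : ℂ, Y = c • 1 := by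
  have h1 : ∀ x y : Fin n → F, y ≠ x → Y (dl x) y = 0 := by
    intro x y hxy
    have hy0 : y - x ≠ 0 := sub_ne_zero.mpr hxy
    obtain ⟨i, hi⟩ : ∃ i, (y - x) i ≠ 0 := by
      by_contra hcon
      push Not at hcon
      exact hy0 (funext hcon)
    let a : Fin n → F := Pi.single i ((y - x) i)⁻¹
    have e1 : (y - x) ⬝ᵥ a = 1 := by
      rw [dotProduct_single]
      exact mul_inv_cancel₀ hi
    have e2 := LinearMap.congr_fun (hY (inL a)) (dl x)
    have e3 : Y (rr ψ (inL a) (dl x)) = rr ψ (inL a) (Y (dl x)) := e2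
    rw [rr_inL_dl, map_smul] at e3
    have e4 := congrFun e3 y
    rw [rr_inL_apply] at e4
    simp only [Pi.smul_apply, smul_eq_mul] at e4
    have e5 : y ⬝ᵥ a = x ⬝ᵥ a + 1 := by
      rw [← e1, sub_dotProduct]
      ring
    rw [e5, AddChar.map_add_eq_mul] at e4
    have e6 : ψ (x ⬝ᵥ a) * (Y (dl x) y * (ψ 1 - 1)) = 0 := by
      linear_combination (-1 : ℂ) * e4
    have e7 : ψ (x ⬝ᵥ a) ≠ 0 := (AddChar.val_isUnit ψ _).ne_zero
    have e8 := (mul_eq_zero.mp e6).resolve_left e7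
    exact (mul_eq_zero.mp e8).resolve_right (sub_ne_zero.mpr hψ)
  have h2 : ∀ x : Fin n → F, Y (dl x) = Y (dl x) x • dl x := by
    intro x
    funext y
    by_cases hy : y = x
    · subst hy
      simp [dl_apply]
    · simp [h1 x y hy, dl_apply, hy]
  have h3 : ∀ x b : Fin n → F, Y (dl (x - b)) (x - b) = Y (dl x) x := by
    intro x b
    have e2 := LinearMap.congr_fun (hY (inR b)) (dl x)
    have e3 : Y (rr ψ (inR b) (dl x)) = rr ψ (inR b) (Y (dl x)) := e2
    rw [rr_inR_dl] at e3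
    have e4 := congrFun e3 (x - b)
    rw [rr_inR_apply, sub_add_cancel] at e4
    rw [e4]
  refine ⟨Y (dl 0) 0, ?_⟩
  apply LinearMap.ext
  intro φ
  have h4 : ∀ x : Fin n → F, Y (dl x) x = Y (dl 0) 0 := by
    intro x
    have := h3 0 (-x)
    simp only [sub_neg_eq_add, zero_add] at this
    exact this
  conv_lhs => rw [eq_sum_dl φ]
  rw [map_sum]
  have h5 : ∀ x, Y (φ x • dl x) = Y (dl 0) 0 • (φ x • dl x) := by
    intro x
    rw [map_smul, h2 x, h4 x, smul_comm]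
  simp only [h5]
  rw [← Finset.smul_sum, ← eq_sum_dl φ]
  rfl

/-! ### The intertwiners -/

variable (hψ : ψ 1 ≠ 1) (g : Matrix.symplecticGroup (Fin n) F)

include hψ

/-- The vector fixed by the image of the first Lagrangian. -/
lemma exists_fixed : ∃ e : WS F n, e ≠ 0 ∧ ∀ a, rr ψ (g.1 *ᵥ inL a) e = e := by
  have hτ : ∀ a b : Fin n → F, rr ψ (g.1 *ᵥ inL (a + b)) = rr ψ (g.1 *ᵥ inL a) * rr ψ (g.1 *ᵥ inL b) := by
    intro a b
    rw [rr_mul ψ h2, om_sp, inL_add, Matrix.mulVec_add]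
    simp [om]
  have hτ0 : rr ψ (g.1 *ᵥ inL (0 : Fin n → F)) = 1 := by
    rw [inL_zero, Matrix.mulVec_zero, rr_zero]
  have hp := pairing_dot (n := n) ψ hψ
  have hs := sum_ee (τ := fun a => rr ψ (g.1 *ᵥ inL a)) hp hτ hτ0
  obtain ⟨c, hc⟩ : ∃ c : Fin n → F, ee (fun (c a : Fin n → F) => ψ (a ⬝ᵥ c)) (fun a => rr ψ (g.1 *ᵥ inL a)) c ≠ 0 := by
    by_contra hcon
    push Not at hcon
    rw [Finset.sum_eq_zero (fun c _ => hcon c)] at hs
    have := LinearMap.congr_fun hs (dl 0)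
    exact dl_ne 0 this.symm
  obtain ⟨u, hu⟩ : ∃ u, ee (fun (c a : Fin n → F) => ψ (a ⬝ᵥ c)) (fun a => rr ψ (g.1 *ᵥ inL a)) c u ≠ 0 := by
    by_contra hcon
    push Not at hcon
    exact hc (LinearMap.ext hcon)
  set e0 := ee (fun (c a : Fin n → F) => ψ (a ⬝ᵥ c)) (fun a => rr ψ (g.1 *ᵥ inL a)) c u with he0
  have hw : ∀ a, rr ψ (g.1 *ᵥ inL a) e0 = ψ (a ⬝ᵥ c) • e0 := by
    have hmem : e0 ∈ LinearMap.range (ee (fun (c a : Fin n → F) => ψ (a ⬝ᵥ c)) (fun a => rr ψ (g.1 *ᵥ inL a)) c) := ⟨u, rfl⟩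
    exact (mem_range_ee hp hτ hτ0).mp hmem
  refine ⟨rr ψ (g.1 *ᵥ inR c) e0, fun h => hu (rr_inj ψ h2 _ (by rw [h, map_zero])), ?_⟩
  intro a
  have h3 := LinearMap.congr_fun (rr_comm ψ h2 (g.1 *ᵥ inL a) (g.1 *ᵥ inR c)) e0
  have h4 : rr ψ (g.1 *ᵥ inL a) (rr ψ (g.1 *ᵥ inR c) e0) =
      ψ (om (g.1 *ᵥ inL a) (g.1 *ᵥ inR c)) • rr ψ (g.1 *ᵥ inR c) (rr ψ (g.1 *ᵥ inL a) e0) := h3
  rw [h4, hw, map_smul, om_sp, smul_smul, ← AddChar.map_add_eq_mul]
  have h5 : om (inL a) (inR c) + a ⬝ᵥ c = 0 := by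
    simp [om]
  rw [h5]
  simp

/-- **The intertwiner.** -/
theorem exists_T : ∃ T : WS F n ≃ₗ[ℂ] WS F n, ∀ v φ, T (rr ψ v φ) = rr ψ (g.1 *ᵥ v) (T φ) := by
  obtain ⟨e, he, hfix⟩ := exists_fixed ψ h2 hψ g
  let T0 : Module.End ℂ (WS F n) :=
    { toFun := fun φ => ∑ c, φ c • rr ψ (g.1 *ᵥ inR (-c)) e
      map_add' := fun φ φ' => by
        simp [add_smul, Finset.sum_add_distrib]
      map_smul' := fun t φ => by
        simp [mul_smul, Finset.smul_sum] }
  have hT0 : ∀ φ, T0 φ = ∑ c, φ c • rr ψ (g.1 *ᵥ inR (-c)) e := fun φ => rfl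
  have hL : ∀ a φ, T0 (rr ψ (inL a) φ) = rr ψ (g.1 *ᵥ inL a) (T0 φ) := by
    intro a φ
    rw [hT0, hT0, map_sum]
    refine Finset.sum_congr rfl fun c _ => ?_
    rw [map_smul, rr_inL_apply]
    have h3 := LinearMap.congr_fun (rr_comm ψ h2 (g.1 *ᵥ inL a) (g.1 *ᵥ inR (-c))) e
    have h4 : rr ψ (g.1 *ᵥ inL a) (rr ψ (g.1 *ᵥ inR (-c)) e) =
        ψ (om (g.1 *ᵥ inL a) (g.1 *ᵥ inR (-c))) • rr ψ (g.1 *ᵥ inR (-c)) (rr ψ (g.1 *ᵥ inL a) e) := h3
    rw [h4, hfix, om_sp]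
    have h5 : om (inL a) (inR (-c)) = c ⬝ᵥ a := by
      simp [om, dotProduct_comm a c]
    rw [h5, smul_smul, mul_comm]
  have hR : ∀ b φ, T0 (rr ψ (inR b) φ) = rr ψ (g.1 *ᵥ inR b) (T0 φ) := by
    intro b φ
    rw [hT0, hT0, map_sum]
    have h3 := Equiv.sum_comp (Equiv.addRight b) (fun c => φ c • rr ψ (g.1 *ᵥ inR (b - c)) e)
    have h4 : ∀ c, (rr ψ (inR b) φ) c • rr ψ (g.1 *ᵥ inR (-c)) e =
        φ (Equiv.addRight b c) • rr ψ (g.1 *ᵥ inR (b - Equiv.addRight b c)) e := by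
      intro c
      rw [rr_inR_apply]
      simp
    simp only [h4]
    rw [h3]
    refine Finset.sum_congr rfl fun c _ => ?_
    rw [map_smul]
    congr 1
    have h5 : rr ψ (g.1 *ᵥ inR b) * rr ψ (g.1 *ᵥ inR (-c)) = rr ψ (g.1 *ᵥ inR (b - c)) := by
      rw [rr_mul ψ h2, om_sp, ← Matrix.mulVec_add, ← inR_add, ← sub_eq_add_neg]
      simp [om]
    rw [← h5]
    rfl
  have hgen : ∀ v φ, T0 (rr ψ v φ) = rr ψ (g.1 *ᵥ v) (T0 φ) := by
    intro v φ
    have e1 := rr_mul ψ h2 (inL (wa v)) (inR (wb v))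
    have e2 := rr_mul ψ h2 (g.1 *ᵥ inL (wa v)) (g.1 *ᵥ inR (wb v))
    rw [om_sp, ← Matrix.mulVec_add, ← v_eq] at e2
    rw [← v_eq] at e1
    set κ := ψ (hh F * om (inL (wa v)) (inR (wb v))) with hκ
    have hκ0 : κ ≠ 0 := (AddChar.val_isUnit ψ _).ne_zero
    have e3 : rr ψ v = κ⁻¹ • (rr ψ (inL (wa v)) * rr ψ (inR (wb v))) := by
      rw [e1, smul_smul, inv_mul_cancel₀ hκ0, one_smul]
    have e4 : rr ψ (g.1 *ᵥ v) = κ⁻¹ • (rr ψ (g.1 *ᵥ inL (wa v)) * rr ψ (g.1 *ᵥ inR (wb v))) := by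
      rw [e2, smul_smul, inv_mul_cancel₀ hκ0, one_smul]
    rw [e3, e4]
    show T0 (κ⁻¹ • rr ψ (inL (wa v)) (rr ψ (inR (wb v)) φ)) =
      κ⁻¹ • rr ψ (g.1 *ᵥ inL (wa v)) (rr ψ (g.1 *ᵥ inR (wb v)) (T0 φ))
    rw [map_smul, hL, hR]
  have hinj : Function.Injective T0 := by
    rw [injective_iff_map_eq_zero]
    intro φ hφ
    by_contra hne
    obtain ⟨x0, hx0⟩ : ∃ x0, φ x0 ≠ 0 := by
      by_contra hcon
      push Not at hcon
      exact hne (funext hcon)
    let P : WS F n := ∑ a : Fin n → F, ψ (-(x0 ⬝ᵥ a)) • rr ψ (inL a) φ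
    have h1 : T0 P = 0 := by
      simp only [P, map_sum, map_smul, hL, hφ, map_zero, smul_zero, Finset.sum_const_zero]
    have h3 : P = ((Fintype.card (Fin n → F) : ℂ) * φ x0) • dl x0 := by
      funext x
      simp only [P, Finset.sum_apply, Pi.smul_apply, smul_eq_mul, rr_inL_apply, dl_apply]
      have h4 : ∀ a : Fin n → F, ψ (-(x0 ⬝ᵥ a)) * (ψ (x ⬝ᵥ a) * φ x) = ψ ((x - x0) ⬝ᵥ a) * φ x := by
        intro a
        rw [← mul_assoc, ← AddChar.map_add_eq_mul, sub_dotProduct]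
        congr 2
        ring
      simp only [h4, ← Finset.sum_mul]
      by_cases hx : x = x0
      · subst hx
        simp
      · rw [sum_char ψ hψ (x - x0) (sub_ne_zero.mpr hx)]
        simp [hx]
    have h5 : T0 (dl x0) = rr ψ (g.1 *ᵥ inR (-x0)) e := by
      rw [hT0, Finset.sum_eq_single x0]
      · simp [dl_apply]
      · intro c _ hc
        simp [dl_apply, hc]
      · simp
    rw [h3, map_smul, h5] at h1
    have h6 : (Fintype.card (Fin n → F) : ℂ) * φ x0 ≠ 0 := by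
      apply mul_ne_zero _ hx0
      exact_mod_cast Fintype.card_ne_zero
    have h7 := (smul_eq_zero.mp h1).resolve_left h6
    exact he (rr_inj ψ h2 _ (by rw [h7, map_zero]))
  exact ⟨LinearEquiv.ofInjectiveEndo T0 hinj, fun v φ => hgen v φ⟩

end Cfsg.Agent.Lib.Weil.Basic
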