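import Cfsg.Agent.Lib.Weil.Basic
import Cfsg.Agent.Lib.SpDeg.Main

/-!
The group of pairs `(g, T)` with `T` an intertwiner for `g`, its central `ℂˣ`, and the retraction onto this
`ℂˣ` coming from the transfer to the stabiliser of a Lagrangian and the determinant: the Weil representation.
-/

set_option autoImplicit false
set_option linter.unusedSectionVars false
set_option linter.unusedVariables false
set_option linter.unusedSimpArgs false
set_option linter.ambiguousOpen false
set_option linter.style.haveILetI false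

namespace Cfsg.Agent.Lib.Weil.Ext

open Module Matrix Cfsg.Agent.Lib.WtSpace.Basic Cfsg.Agent.Lib.Weil.Basic Cfsg.Agent.Lib.SpDeg.Main
open scoped _root_.Classical

universe u

variable {F : Type u} [Field F] [Fintype F] {n : ℕ}

/-- The stabiliser of the Lagrangian. -/
def PP (F : Type u) [Field F] [Fintype F] (n : ℕ) : Subgroup (Matrix.symplecticGroup (Fin n) F) where
  carrier := {g | ∀ v : WV F n, wb v = 0 ↔ wb (g.1 *ᵥ v) = 0}
  mul_mem' := by
    intro a b ha hb v
    rw [hb v, ha (b.1 *ᵥ v)]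
    show _ ↔ wb ((a.1 * b.1) *ᵥ v) = 0
    rw [Matrix.mulVec_mulVec]
  one_mem' := by
    intro v
    show _ ↔ wb ((1 : Matrix _ _ F) *ᵥ v) = 0
    rw [Matrix.one_mulVec]
  inv_mem' := by
    intro a ha v
    have h1 : a.1 *ᵥ ((a⁻¹).1 *ᵥ v) = v := by
      rw [Matrix.mulVec_mulVec]
      have : a.1 * (a⁻¹).1 = 1 := congrArg Subtype.val (mul_inv_cancel a)
      rw [this, Matrix.one_mulVec]
    rw [ha ((a⁻¹).1 *ᵥ v), h1]

lemma mem_PP {g : Matrix.symplecticGroup (Fin n) F} : g ∈ PP F n ↔ ∀ v : WV F n, wb v = 0 ↔ wb (g.1 *ᵥ v) = 0 := Iff.rfl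

/-- The action of the radical. -/
lemma UU_mulVec (B : SymM F n) (v : WV F n) : (UU B).1 *ᵥ v = Sum.elim (wa v + B.1 *ᵥ wb v) (wb v) := by
  rw [UU_coe]
  have e : v = Sum.elim (wa v) (wb v) := by
    funext i
    cases i <;> rfl
  conv_lhs => rw [e]
  rw [Matrix.fromBlocks_mulVec]
  simp [wa, wb]

lemma wb_UU (B : SymM F n) (v : WV F n) : wb ((UU B).1 *ᵥ v) = wb v := by
  rw [UU_mulVec]
  rfl

lemma wa_UU (B : SymM F n) (v : WV F n) : wa ((UU B).1 *ᵥ v) = wa v + B.1 *ᵥ wb v := by
  rw [UU_mulVec]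
  rfl

lemma UU_mem (B : SymM F n) : UU B ∈ PP F n := by
  intro v
  rw [wb_UU]

/-- Symmetric matrices move a nonzero vector anywhere. -/
lemma exists_sym_mulVec {b : Fin n → F} (hb : b ≠ 0) (c : Fin n → F) : ∃ B : SymM F n, B.1 *ᵥ b = c := by
  obtain ⟨i, hi⟩ : ∃ i, b i ≠ 0 := by
    by_contra hcon
    push Not at hcon
    exact hb (funext hcon)
  let w : Fin n → F := Pi.single i (b i)⁻¹
  have hw : w ⬝ᵥ b = 1 := by
    simp [w, hi]
  refine ⟨⟨vecMulVec c w + vecMulVec w c - (c ⬝ᵥ b) • vecMulVec w w, ?_⟩, ?_⟩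
  · rw [mem_SymM]
    ext j k
    simp [vecMulVec_apply, mul_comm]
    ring
  · show (vecMulVec c w + vecMulVec w c - (c ⬝ᵥ b) • vecMulVec w w) *ᵥ b = c
    rw [Matrix.sub_mulVec, Matrix.add_mulVec, Matrix.smul_mulVec, Matrix.vecMulVec_mulVec, Matrix.vecMulVec_mulVec,
      Matrix.vecMulVec_mulVec, hw]
    ext j
    simp

/-- The radical as a subgroup. -/
def UG (F : Type u) [Field F] [Fintype F] (n : ℕ) : Subgroup (Matrix.symplecticGroup (Fin n) F) where
  carrier := {g | ∃ B : SymM F n, g = UU B}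
  mul_mem' := by
    rintro _ _ ⟨B, rfl⟩ ⟨B', rfl⟩
    exact ⟨B + B', (UU_add B B').symm⟩
  one_mem' := ⟨0, UU_zero.symm⟩
  inv_mem' := by
    rintro _ ⟨B, rfl⟩
    refine ⟨-B, ?_⟩
    rw [inv_eq_iff_mul_eq_one, ← UU_add, add_neg_cancel, UU_zero]

lemma UU_pow (B : SymM F n) (k : ℕ) : UU B ^ k = UU (k • B) := by
  induction k with
  | zero => simp [UU_zero]
  | succ k ih => rw [pow_succ, ih, ← UU_add, succ_nsmul]

/-- An element `g` with `g⁻¹ U g` in the stabiliser lies in the stabiliser. -/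
lemma mem_PP_of_conj {g : Matrix.symplecticGroup (Fin n) F} (h : ∀ B : SymM F n, g⁻¹ * UU B * g ∈ PP F n) : g ∈ PP F n := by
  let L : Submodule F (WV F n) :=
    { carrier := {v | wb v = 0}
      add_mem' := by
        intro a b ha hb
        simp only [Set.mem_ofPred_eq, wb_add] at *
        rw [ha, hb, add_zero]
      zero_mem' := rfl
      smul_mem' := by
        intro c a ha
        simp only [Set.mem_ofPred_eq] at *
        have : wb (c • a) = c • wb a := rfl
        rw [this, ha, smul_zero] }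
  have hginv : ∀ v, (g⁻¹).1 *ᵥ (g.1 *ᵥ v) = v := by
    intro v
    rw [Matrix.mulVec_mulVec]
    have : (g⁻¹).1 * g.1 = 1 := congrArg Subtype.val (inv_mul_cancel g)
    rw [this, Matrix.one_mulVec]
  have hginv' : ∀ v, g.1 *ᵥ ((g⁻¹).1 *ᵥ v) = v := by
    intro v
    rw [Matrix.mulVec_mulVec]
    have : g.1 * (g⁻¹).1 = 1 := congrArg Subtype.val (mul_inv_cancel g)
    rw [this, Matrix.one_mulVec]
  have hinj : Function.Injective (Matrix.toLin' g.1) := by
    intro a b hab
    have h1 : g.1 *ᵥ a = g.1 *ᵥ b := hab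
    rw [← hginv a, h1, hginv]
  let e : WV F n ≃ₗ[F] WV F n := LinearEquiv.ofInjectiveEndo (Matrix.toLin' g.1) hinj
  have he : ∀ v, e v = g.1 *ᵥ v := fun v => rfl
  let M : Submodule F (WV F n) := L.map (e : WV F n →ₗ[F] WV F n)
  have hfr : finrank F M = finrank F L := LinearEquiv.finrank_map_eq e L
  have hmemM : ∀ v, v ∈ M ↔ wb ((g⁻¹).1 *ᵥ v) = 0 := by
    intro v
    constructor
    · rintro ⟨l, hl, rfl⟩
      show wb ((g⁻¹).1 *ᵥ (g.1 *ᵥ l)) = 0
      rw [hginv]
      exact hl
    · intro hv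
      exact ⟨(g⁻¹).1 *ᵥ v, hv, hginv' v⟩
  have hM : ∀ (B : SymM F n) (m : WV F n), m ∈ M → (UU B).1 *ᵥ m ∈ M := by
    intro B m hm
    rw [hmemM] at hm ⊢
    have h1 := (h B) ((g⁻¹).1 *ᵥ m)
    have h2 := h1.mp hm
    have h3 : (g⁻¹ * UU B * g).1 *ᵥ ((g⁻¹).1 *ᵥ m) = (g⁻¹).1 *ᵥ ((UU B).1 *ᵥ (g.1 *ᵥ ((g⁻¹).1 *ᵥ m))) := by
      show ((g⁻¹).1 * (UU B).1 * g.1) *ᵥ ((g⁻¹).1 *ᵥ m) = _
      simp only [Matrix.mulVec_mulVec, Matrix.mul_assoc]
    rw [h3, hginv'] at h2
    exact h2
  have hML : M = L := by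
    by_cases hall : ∀ m ∈ M, wb m = 0
    · exact Submodule.eq_of_le_of_finrank_eq (fun m hm => hall m hm) hfr
    · push Not at hall
      obtain ⟨m, hm, hb⟩ := hall
      refine (Submodule.eq_of_le_of_finrank_eq ?_ hfr.symm).symm
      intro l hl
      have hl' : wb l = 0 := hl
      obtain ⟨B, hB⟩ := exists_sym_mulVec hb (wa l)
      have h1 := M.sub_mem (hM B m hm) hm
      have h2 : (UU B).1 *ᵥ m - m = l := by
        funext i
        cases i with
        | inl i =>
          have := congrFun (wa_UU B m) i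
          simp only [hB] at this
          show wa ((UU B).1 *ᵥ m) i - wa m i = wa l i
          rw [this]
          simp
        | inr i =>
          have := congrFun (wb_UU B m) i
          have h3 := congrFun hl' i
          show wb ((UU B).1 *ᵥ m) i - wb m i = wb l i
          rw [this, h3]
          simp
      rwa [h2] at h1
  intro v
  constructor
  · intro hv
    have : g.1 *ᵥ v ∈ M := ⟨v, hv, rfl⟩
    rw [hML] at this
    exact this
  · intro hv
    have h1 : g.1 *ᵥ v ∈ L := hv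
    rw [← hML, hmemM, hginv] at h1
    exact h1

/-- The index of the stabiliser of the Lagrangian is congruent to one modulo the characteristic. -/
lemma index_modEq {p : ℕ} [Fact p.Prime] [CharP F p] : (PP F n).index ≡ 1 [MOD p] := by
  have hpg : IsPGroup p (UG F n) := by
    rintro ⟨g, B, rfl⟩
    refine ⟨1, ?_⟩
    apply Subtype.ext
    show UU B ^ p ^ 1 = 1
    rw [pow_one, UU_pow]
    have : p • B = 0 := by
      apply Subtype.ext
      ext i j
      show ((p : ℕ) • B.1) i j = 0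
      simp [CharP.cast_eq_zero F p]
    rw [this, UU_zero]
  have hfin : Finite (Matrix.symplecticGroup (Fin n) F ⧸ PP F n) := inferInstance
  have h1 := hpg.card_modEq_card_fixedPoints (Matrix.symplecticGroup (Fin n) F ⧸ PP F n)
  have h2 : MulAction.fixedPoints (UG F n) (Matrix.symplecticGroup (Fin n) F ⧸ PP F n) = {QuotientGroup.mk 1} := by
    ext x
    simp only [MulAction.mem_fixedPoints, Set.mem_singleton_iff]
    constructor
    · intro hx
      obtain ⟨g, rfl⟩ := QuotientGroup.mk_surjective x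
      have h3 : g ∈ PP F n := by
        apply mem_PP_of_conj
        intro B
        have h4 := hx ⟨UU B, B, rfl⟩
        have h5 : (QuotientGroup.mk (UU B * g) : Matrix.symplecticGroup (Fin n) F ⧸ PP F n) = QuotientGroup.mk g := h4
        rw [eq_comm, QuotientGroup.eq] at h5
        rwa [← mul_assoc] at h5
      rw [QuotientGroup.eq]
      simpa using (PP F n).inv_mem h3
    · rintro rfl ⟨u, B, rfl⟩
      show (QuotientGroup.mk (UU B * 1) : Matrix.symplecticGroup (Fin n) F ⧸ PP F n) = QuotientGroup.mk 1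
      rw [mul_one, QuotientGroup.eq]
      simpa using (PP F n).inv_mem (UU_mem B)
  rw [h2] at h1
  have h3 : Nat.card (({QuotientGroup.mk 1} : Set (Matrix.symplecticGroup (Fin n) F ⧸ PP F n))) = 1 := Nat.card_unique
  rw [h3] at h1
  exact h1

end Cfsg.Agent.Lib.Weil.Ext
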