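import Cfsg.Agent.Lib.Weil.Minus

/-!
The irreducible representation of degree `(q^n - 1)/2` of `Sp_{2n}(q)`, `q` odd.
-/

set_option autoImplicit false
set_option linter.unusedSectionVars false
set_option linter.unusedVariables false
set_option linter.unusedSimpArgs false
set_option linter.ambiguousOpen false
set_option linter.style.haveILetI false

namespace Cfsg.Agent.Lib.Weil.Final

open Module Matrix Cfsg.Agent.Lib.WtSpace.Basic Cfsg.Agent.Lib.Weil.Basic Cfsg.Agent.Lib.Weil.Ext Cfsg.Agent.Lib.Weil.Rep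
open Cfsg.Agent.Lib.Weil.Minus Cfsg.Agent.Lib.SpDeg.Main
open scoped _root_.Classical

universe u

variable {F : Type u} [Field F] [Fintype F] {n : ℕ}

/-- **The odd Weil representation.** -/
theorem exists_irr (hn : 2 ≤ n) (h2 : (2 : F) ≠ 0) :
    ∃ ρ : Representation ℂ (Matrix.symplecticGroup (Fin n) F) (Fin ((Fintype.card F ^ n - 1) / 2) → ℂ), ρ.IsIrreducible := by
  obtain ⟨ψ, hψ⟩ := Cfsg.Agent.Lib.SUDeg.Final.exists_psi (F := F)
  obtain ⟨τ, hτ⟩ := exists_weil (F := F) (n := n) ψ h2 hψ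
  have hq : 2 ≤ Fintype.card F := Fintype.one_lt_card
  have hcard : Fintype.card (Fin n → F) = Fintype.card F ^ n := by
    rw [Fintype.card_fun, Fintype.card_fin]
  have hfr := finrank_SM (F := F) (n := n) h2
  rw [hcard] at hfr
  have hd : (Fintype.card F ^ n - 1) / 2 = finrank ℂ (SM F n) := by omega
  have hdpos : 0 < finrank ℂ (SM F n) := by
    have h3 : 2 ^ 2 ≤ Fintype.card F ^ n :=
      (Nat.pow_le_pow_left hq 2).trans (Nat.pow_le_pow_right (by omega) hn)
    omega
  rw [hd]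
  -- `τ` and the intertwiners
  have hT : ∀ (t : EE (F := F) (n := n) ψ), ∃ c : ℂ, c ≠ 0 ∧ ∀ φ, τ t.1.1 φ = c • t.1.2 φ := by
    intro t
    obtain ⟨c, hc⟩ := hτ t
    refine ⟨((c⁻¹ : ℂˣ) : ℂ), (c⁻¹).ne_zero, fun φ => ?_⟩
    have h3 := LinearMap.congr_fun hc φ
    have h4 : t.1.2 φ = (c : ℂ) • τ t.1.1 φ := h3
    rw [h4, smul_smul, ← Units.val_mul, inv_mul_cancel, Units.val_one, one_smul]
  have hsec : ∀ g, ∃ t : EE (F := F) (n := n) ψ, t.1.1 = g := pr_surj ψ h2 hψ
  have hinvSM : ∀ g, ∀ φ ∈ SM F n, τ g φ ∈ SM F n := by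
    intro g φ hφ
    obtain ⟨t, rfl⟩ := hsec g
    obtain ⟨c, hc, hcφ⟩ := hT t
    rw [hcφ]
    apply Submodule.smul_mem
    intro x
    have h3 := congrFun (T_II ψ h2 hψ t φ) x
    rw [II_apply] at h3
    rw [← h3]
    have h4 : II φ = -φ := by
      funext y
      exact hφ y
    rw [h4, map_neg]
    rfl
  let e : SM F n ≃ₗ[ℂ] (Fin (finrank ℂ (SM F n)) → ℂ) := LinearEquiv.ofFinrankEq _ _ (by simp)
  let ρ : Representation ℂ (Matrix.symplecticGroup (Fin n) F) (Fin (finrank ℂ (SM F n)) → ℂ) :=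
    { toFun := fun g => e.toLinearMap ∘ₗ ((τ g).restrict (hinvSM g)) ∘ₗ e.symm.toLinearMap
      map_one' := by
        apply LinearMap.ext
        intro w
        show e ((τ 1).restrict (hinvSM 1) (e.symm w)) = w
        have : (τ 1).restrict (hinvSM 1) (e.symm w) = e.symm w := by
          apply Subtype.ext
          show τ 1 (e.symm w : WS F n) = _
          rw [map_one]
          rfl
        rw [this, e.apply_symm_apply]
        
      map_mul' := by
        intro g h
        apply LinearMap.ext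
        intro w
        show e ((τ (g * h)).restrict (hinvSM (g * h)) (e.symm w)) =
          e ((τ g).restrict (hinvSM g) (e.symm (e ((τ h).restrict (hinvSM h) (e.symm w)))))
        rw [e.symm_apply_apply]
        congr 1
        apply Subtype.ext
        show τ (g * h) (e.symm w : WS F n) = τ g (τ h (e.symm w : WS F n))
        rw [map_mul]
        rfl }
  have hρ : ∀ g w, (e.symm (ρ g w) : WS F n) = τ g (e.symm w : WS F n) := by
    intro g w
    show (e.symm (e ((τ g).restrict (hinvSM g) (e.symm w))) : WS F n) = _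
    rw [e.symm_apply_apply]
    rfl
  refine ⟨ρ, ?_⟩
  have hnt : Nontrivial (Fin (finrank ℂ (SM F n)) → ℂ) := by
    haveI : Nonempty (Fin (finrank ℂ (SM F n))) := ⟨⟨0, hdpos⟩⟩
    infer_instance
  refine { exists_pair_ne := ⟨⊥, ⊤, ?_⟩, eq_bot_or_eq_top := ?_ }
  · intro h
    have h3 := congrArg Subrepresentation.toSubmodule h
    have h4 : (⊥ : Submodule ℂ (Fin (finrank ℂ (SM F n)) → ℂ)) = ⊤ := h3
    exact bot_ne_top h4
  · intro L
    let N : Submodule ℂ (WS F n) := (L.toSubmodule.map (e.symm : _ →ₗ[ℂ] SM F n)).map (SM F n).subtype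
    have hmemN : ∀ φ, φ ∈ N ↔ ∃ w ∈ L.toSubmodule, (e.symm w : WS F n) = φ := by
      intro φ
      constructor
      · rintro ⟨_, ⟨w, hw, rfl⟩, rfl⟩
        exact ⟨w, hw, rfl⟩
      · rintro ⟨w, hw, rfl⟩
        exact ⟨_, ⟨w, hw, rfl⟩, rfl⟩
    have hNSM : N ≤ SM F n := by
      intro φ hφ
      obtain ⟨w, _, rfl⟩ := (hmemN φ).mp hφ
      exact (e.symm w).2
    have hinv : ∀ t : EE (F := F) (n := n) ψ, ∀ φ ∈ N, t.1.2 φ ∈ N := by
      intro t φ hφ
      obtain ⟨c, hc, hcφ⟩ := hT t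
      obtain ⟨w, hw, rfl⟩ := (hmemN φ).mp hφ
      have h3 : τ t.1.1 (e.symm w : WS F n) ∈ N :=
        (hmemN _).mpr ⟨ρ t.1.1 w, L.apply_mem_toSubmodule _ hw, hρ _ _⟩
      rw [hcφ] at h3
      exact (Submodule.smul_mem_iff _ hc).mp h3
    by_cases hN : N = ⊥
    · left
      apply Subrepresentation.toSubmodule_injective
      show L.toSubmodule = ⊥
      rw [eq_bot_iff]
      intro w hw
      have h3 : (e.symm w : WS F n) ∈ N := (hmemN _).mpr ⟨w, hw, rfl⟩
      rw [hN, Submodule.mem_bot] at h3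
      have h4 : e.symm w = 0 := Subtype.ext h3
      simpa using h4
    · right
      apply Subrepresentation.toSubmodule_injective
      show L.toSubmodule = ⊤
      rw [eq_top_iff]
      intro w _
      have h3 := core ψ h2 hψ hn N hNSM hinv hN (e.symm w).2
      obtain ⟨w', hw', h4⟩ := (hmemN _).mp h3
      have h5 : e.symm w' = e.symm w := Subtype.ext h4
      rw [e.symm.injective h5] at hw'
      exact hw'

end Cfsg.Agent.Lib.Weil.Final
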