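import Cfsg.Agent.Lib.Weil.Rep
import Cfsg.Agent.Lib.CrossChar.SL

/-!
The odd part of the Weil representation is irreducible of degree `(q^n - 1)/2`.
-/

set_option autoImplicit false
set_option linter.unusedSectionVars false
set_option linter.unusedVariables false
set_option linter.unusedSimpArgs false
set_option linter.ambiguousOpen false
set_option linter.style.haveILetI false

namespace Cfsg.Agent.Lib.Weil.Minus

open Module Matrix Cfsg.Agent.Lib.WtSpace.Basic Cfsg.Agent.Lib.Weil.Basic Cfsg.Agent.Lib.Weil.Ext Cfsg.Agent.Lib.Weil.Rep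
open Cfsg.Agent.Lib.SpDeg.Main
open scoped _root_.Classical

universe u

variable {F : Type u} [Field F] [Fintype F] {n : ℕ}

/-- The inversion operator. -/
noncomputable def II : Module.End ℂ (WS F n) where
  toFun φ := fun x => φ (-x)
  map_add' _ _ := rfl
  map_smul' _ _ := rfl

lemma II_apply (φ : WS F n) (x : Fin n → F) : II φ x = φ (-x) := rfl

lemma II_II (φ : WS F n) : II (II φ) = φ := by
  funext x
  simp [II_apply]

lemma II_rr (ψ : AddChar F ℂ) (v : WV F n) (φ : WS F n) : II (rr ψ v φ) = rr ψ (-v) (II φ) := by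
  funext x
  simp only [II_apply, rr_apply, wa_neg, wb_neg, dotProduct_neg, neg_dotProduct, neg_neg]
  congr 2
  abel

/-- The trace of the inversion. -/
lemma trace_II (h2 : (2 : F) ≠ 0) : LinearMap.trace ℂ (WS F n) II = 1 := by
  rw [LinearMap.trace_eq_matrix_trace ℂ (Pi.basisFun ℂ (Fin n → F)), Matrix.trace]
  have h : ∀ x : Fin n → F, (LinearMap.toMatrix (Pi.basisFun ℂ (Fin n → F)) (Pi.basisFun ℂ (Fin n → F)) II) x x =
      if x = 0 then 1 else 0 := by
    intro x
    rw [LinearMap.toMatrix_apply]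
    simp only [Pi.basisFun_apply, Pi.basisFun_repr, II_apply]
    simp only [Pi.single_apply]
    by_cases hx : x = 0
    · simp [hx]
    · have : -x ≠ x := by
        intro h3
        apply hx
        funext i
        have h4 := congrFun h3 i
        have h5 : (2 : F) * x i = 0 := by
          simp only [Pi.neg_apply] at h4
          linear_combination - h4
        exact (mul_eq_zero.mp h5).resolve_left h2
      simp [hx, this]
  simp only [Matrix.diag_apply, h]
  simp

variable (ψ : AddChar F ℂ) (h2 : (2 : F) ≠ 0) (hψ : ψ 1 ≠ 1)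

include h2 hψ

/-- Intertwiners commute with the inversion. -/
lemma T_II (t : EE (F := F) (n := n) ψ) (φ : WS F n) : t.1.2 (II φ) = II (t.1.2 φ) := by
  set T := t.1.2 with hT
  set g := t.1.1 with hg
  have hmem : ∀ v φ, T (rr ψ v φ) = rr ψ (g.1 *ᵥ v) (T φ) := t.2
  -- `Y = I T I T⁻¹` commutes with the Weyl operators
  let Y : Module.End ℂ (WS F n) :=
    { toFun := fun φ => II (T (II (T.symm φ)))
      map_add' := fun a b => by simp
      map_smul' := fun c a => by simp }
  have hY : ∀ φ, Y φ = II (T (II (T.symm φ))) := fun φ => rfl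
  have hsymm : ∀ v φ, T.symm (rr ψ v φ) = rr ψ ((g⁻¹).1 *ᵥ v) (T.symm φ) := by
    intro v φ
    apply T.injective
    rw [hmem, LinearEquiv.apply_symm_apply, LinearEquiv.apply_symm_apply, Matrix.mulVec_mulVec]
    have : g.1 * (g⁻¹).1 = 1 := congrArg Subtype.val (mul_inv_cancel g)
    rw [this, Matrix.one_mulVec]
  have hcomm : ∀ v, Y * rr ψ v = rr ψ v * Y := by
    intro v
    apply LinearMap.ext
    intro φ
    show Y (rr ψ v φ) = rr ψ v (Y φ)
    rw [hY, hY, hsymm, II_rr, hmem, II_rr, Matrix.mulVec_neg, neg_neg, Matrix.mulVec_mulVec]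
    have : g.1 * (g⁻¹).1 = 1 := congrArg Subtype.val (mul_inv_cancel g)
    rw [this, Matrix.one_mulVec]
  obtain ⟨c, hc⟩ := commutant ψ h2 hψ Y hcomm
  -- hence `T I T⁻¹ = c I`
  have h1 : ∀ φ, T (II (T.symm φ)) = c • II φ := by
    intro φ
    have h3 := LinearMap.congr_fun hc φ
    rw [hY] at h3
    have h4 := congrArg II h3
    rw [II_II] at h4
    rw [h4]
    simp
  have h3 : LinearMap.trace ℂ (WS F n) (T.conj II) = LinearMap.trace ℂ (WS F n) II := LinearMap.trace_conj' II T
  have h4 : T.conj II = c • II := by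
    apply LinearMap.ext
    intro φ
    exact h1 φ
  rw [h4, map_smul, trace_II h2, smul_eq_mul, mul_one] at h3
  have h5 := h1 (T φ)
  rw [LinearEquiv.symm_apply_apply, h3, one_smul] at h5
  exact h5

/-- The odd functions. -/
noncomputable def SM (F : Type u) [Field F] [Fintype F] (n : ℕ) : Submodule ℂ (WS F n) where
  carrier := {φ | ∀ x, φ (-x) = - φ x}
  add_mem' := by
    intro a b ha hb x
    simp only [Pi.add_apply, ha x, hb x]
    ring
  zero_mem' := by
    intro x
    simp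
  smul_mem' := by
    intro c a ha x
    simp only [Pi.smul_apply, ha x, smul_neg]

omit h2 hψ in
lemma mem_SM {φ : WS F n} : φ ∈ SM F n ↔ ∀ x, φ (-x) = - φ x := Iff.rfl

omit hψ in
/-- The dimension of the space of odd functions. -/
lemma finrank_SM : 2 * finrank ℂ (SM F n) + 1 = Fintype.card (Fin n → F) := by
  let P : Module.End ℂ (WS F n) := (2 : ℂ)⁻¹ • (1 - II)
  have hP : ∀ φ, P φ = (2 : ℂ)⁻¹ • (φ - II φ) := fun φ => rfl
  have hid : IsIdempotentElem P := by
    apply LinearMap.ext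
    intro φ
    show P (P φ) = P φ
    rw [hP, hP, map_smul, map_sub, II_II, smul_sub]
    simp only [← smul_assoc]
    ext x
    simp only [Pi.sub_apply, Pi.smul_apply, smul_eq_mul, map_sub, map_smul]
    ring
  have hr : LinearMap.range P = SM F n := by
    ext φ
    constructor
    · rintro ⟨u, rfl⟩ x
      rw [hP]
      simp only [Pi.smul_apply, Pi.sub_apply, II_apply, neg_neg, smul_eq_mul]
      ring
    · intro hφ
      refine ⟨φ, ?_⟩
      rw [hP]
      funext x
      simp only [Pi.smul_apply, Pi.sub_apply, II_apply, hφ x, smul_eq_mul]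
      ring
  have ht := (LinearMap.IsIdempotentElem.isProj_range _ hid).trace
  rw [hr] at ht
  have h3 : LinearMap.trace ℂ (WS F n) P = (2 : ℂ)⁻¹ * ((Fintype.card (Fin n → F) : ℂ) - 1) := by
    show LinearMap.trace ℂ (WS F n) ((2 : ℂ)⁻¹ • (1 - II)) = _
    rw [map_smul, map_sub, trace_II h2, LinearMap.trace_one, Module.finrank_fintype_fun_eq_card, smul_eq_mul]
  rw [h3] at ht
  have h4 : ((2 * finrank ℂ (SM F n) + 1 : ℕ) : ℂ) = ((Fintype.card (Fin n → F) : ℕ) : ℂ) := by
    push_cast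
    rw [← ht]
    ring
  exact_mod_cast h4

omit h2 hψ

/-- The value of the quadratic form of a symmetric matrix. -/
noncomputable def qq (B : SymM F n) (x : Fin n → F) : F := hh F * (x ⬝ᵥ B.1 *ᵥ x)

lemma dot_sym (B : SymM F n) (x y : Fin n → F) : y ⬝ᵥ B.1 *ᵥ x = x ⬝ᵥ B.1 *ᵥ y := by
  rw [Matrix.dotProduct_mulVec, ← Matrix.mulVec_transpose, show B.1ᵀ = B.1 from B.2, dotProduct_comm]

include h2 in
lemma qq_add (B : SymM F n) (x y : Fin n → F) :
    qq B (x + y) = qq B x + qq B y + x ⬝ᵥ B.1 *ᵥ y := by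
  simp only [qq, Matrix.mulVec_add, dotProduct_add, add_dotProduct, dot_sym B x y]
  have h := hh_add h2
  linear_combination (x ⬝ᵥ B.1 *ᵥ y) * h

lemma qq_neg (B : SymM F n) (x : Fin n → F) : qq B (-x) = qq B x := by
  simp [qq, Matrix.mulVec_neg]

lemma qq_add_left (B B' : SymM F n) (x : Fin n → F) : qq (B + B') x = qq B x + qq B' x := by
  show hh F * (x ⬝ᵥ (B.1 + B'.1) *ᵥ x) = _
  simp only [qq, Matrix.add_mulVec, dotProduct_add, mul_add]

lemma qq_smul (t : F) (B : SymM F n) (x : Fin n → F) : qq (t • B) x = t * qq B x := by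
  show hh F * (x ⬝ᵥ (t • B.1) *ᵥ x) = _
  simp only [qq, Matrix.smul_mulVec, dotProduct_smul, smul_eq_mul]
  ring

lemma psi_neg_mul (y : F) : ψ (-y) * ψ y = 1 := by
  rw [← AddChar.map_add_eq_mul, neg_add_cancel, AddChar.map_zero_eq_one]

lemma psi_mul_neg (y : F) : ψ y * ψ (-y) = 1 := by
  rw [← AddChar.map_add_eq_mul, add_neg_cancel, AddChar.map_zero_eq_one]

/-- The multiplication operators of the radical. -/
noncomputable def MuE (B : SymM F n) : WS F n ≃ₗ[ℂ] WS F n where
  toFun φ := fun x => ψ (qq B x) * φ x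
  invFun φ := fun x => ψ (- qq B x) * φ x
  map_add' a b := by
    funext x
    simp [mul_add]
  map_smul' c a := by
    funext x
    simp only [Pi.smul_apply, smul_eq_mul, RingHom.id_apply]
    ring
  left_inv φ := by
    funext x
    show ψ (- qq B x) * (ψ (qq B x) * φ x) = φ x
    rw [← mul_assoc, psi_neg_mul, one_mul]
  right_inv φ := by
    funext x
    show ψ (qq B x) * (ψ (- qq B x) * φ x) = φ x
    rw [← mul_assoc, psi_mul_neg, one_mul]

lemma MuE_apply (B : SymM F n) (φ : WS F n) (x : Fin n → F) : MuE ψ B φ x = ψ (qq B x) * φ x := rfl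

include h2 in
lemma MuE_mem (B : SymM F n) : (UU (-B), MuE ψ B) ∈ EE (F := F) (n := n) ψ := by
  intro v φ
  funext x
  show MuE ψ B (rr ψ v φ) x = rr ψ ((UU (-B)).1 *ᵥ v) (MuE ψ B φ) x
  rw [MuE_apply, rr_apply, rr_apply, MuE_apply, wa_UU, wb_UU, ← mul_assoc, ← mul_assoc, ← AddChar.map_add_eq_mul,
    ← AddChar.map_add_eq_mul]
  congr 2
  rw [qq_add h2 B x (wb v)]
  have hB : (-B : SymM F n).1 = - B.1 := rfl
  rw [hB, Matrix.neg_mulVec]
  simp only [dotProduct_add, add_dotProduct, dotProduct_neg, neg_dotProduct, qq]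
  rw [dotProduct_comm (B.1 *ᵥ wb v) (wb v)]
  ring

/-- The operators of the Levi subgroup. -/
noncomputable def TRE (R : GL (Fin n) F) : WS F n ≃ₗ[ℂ] WS F n where
  toFun φ := fun x => φ ((R : Matrix (Fin n) (Fin n) F)ᵀ *ᵥ x)
  invFun φ := fun x => φ (((R⁻¹ : GL (Fin n) F) : Matrix (Fin n) (Fin n) F)ᵀ *ᵥ x)
  map_add' _ _ := rfl
  map_smul' _ _ := rfl
  left_inv φ := by
    funext x
    show φ ((R : Matrix (Fin n) (Fin n) F)ᵀ *ᵥ (((R⁻¹ : GL (Fin n) F) : Matrix (Fin n) (Fin n) F)ᵀ *ᵥ x)) = φ x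
    rw [Matrix.mulVec_mulVec, ← Matrix.transpose_mul, ← Units.val_mul, inv_mul_cancel, Units.val_one, transpose_one,
      Matrix.one_mulVec]
  right_inv φ := by
    funext x
    show φ (((R⁻¹ : GL (Fin n) F) : Matrix (Fin n) (Fin n) F)ᵀ *ᵥ ((R : Matrix (Fin n) (Fin n) F)ᵀ *ᵥ x)) = φ x
    rw [Matrix.mulVec_mulVec, ← Matrix.transpose_mul, ← Units.val_mul, mul_inv_cancel, Units.val_one, transpose_one,
      Matrix.one_mulVec]

lemma TRE_apply (R : GL (Fin n) F) (φ : WS F n) (x : Fin n → F) :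
    TRE R φ x = φ ((R : Matrix (Fin n) (Fin n) F)ᵀ *ᵥ x) := rfl

lemma LL_mulVec (R : GL (Fin n) F) (v : WV F n) :
    (LL R).1 *ᵥ v = Sum.elim ((R : Matrix (Fin n) (Fin n) F) *ᵥ wa v) (((R⁻¹ : GL (Fin n) F) : Matrix (Fin n) (Fin n) F)ᵀ *ᵥ wb v) := by
  show (fromBlocks (R : Matrix (Fin n) (Fin n) F) 0 0 ((R⁻¹ : GL (Fin n) F) : Matrix (Fin n) (Fin n) F)ᵀ) *ᵥ v = _
  have e : v = Sum.elim (wa v) (wb v) := by
    funext i
    cases i <;> rfl
  conv_lhs => rw [e]
  rw [Matrix.fromBlocks_mulVec]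
  simp [wa, wb]

lemma TRE_mem (R : GL (Fin n) F) : (LL R, TRE R) ∈ EE (F := F) (n := n) ψ := by
  intro v φ
  funext x
  show TRE R (rr ψ v φ) x = rr ψ ((LL R).1 *ᵥ v) (TRE R φ) x
  have h1 : wa ((LL R).1 *ᵥ v) = (R : Matrix (Fin n) (Fin n) F) *ᵥ wa v := by
    rw [LL_mulVec]
    rfl
  have h3 : wb ((LL R).1 *ᵥ v) = ((R⁻¹ : GL (Fin n) F) : Matrix (Fin n) (Fin n) F)ᵀ *ᵥ wb v := by
    rw [LL_mulVec]
    rfl
  have h4 : (R : Matrix (Fin n) (Fin n) F)ᵀ * ((R⁻¹ : GL (Fin n) F) : Matrix (Fin n) (Fin n) F)ᵀ = 1 := by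
    rw [← Matrix.transpose_mul, ← Units.val_mul, inv_mul_cancel, Units.val_one, transpose_one]
  have h5 : ∀ y z : Fin n → F, ((R : Matrix (Fin n) (Fin n) F)ᵀ *ᵥ y) ⬝ᵥ z = y ⬝ᵥ ((R : Matrix (Fin n) (Fin n) F) *ᵥ z) := by
    intro y z
    rw [Matrix.dotProduct_mulVec, Matrix.mulVec_transpose]
  have h6 : ((R : Matrix (Fin n) (Fin n) F) *ᵥ wa v) ⬝ᵥ (((R⁻¹ : GL (Fin n) F) : Matrix (Fin n) (Fin n) F)ᵀ *ᵥ wb v) = wa v ⬝ᵥ wb v := by
    rw [dotProduct_comm, ← h5, Matrix.mulVec_mulVec, h4, Matrix.one_mulVec, dotProduct_comm]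
  rw [TRE_apply, rr_apply, rr_apply, TRE_apply, h1, h3, Matrix.mulVec_add, Matrix.mulVec_mulVec, h4, Matrix.one_mulVec, h5, h6]

section Core

include h2 hψ

/-- A nonzero linear functional on the symmetric matrices separating `x` from `±x0`. -/
lemma exists_sep {x x0 : Fin n → F} (hx0 : x ≠ x0) (hx1 : x ≠ -x0) : ∃ B : SymM F n, qq B x - qq B x0 = 1 := by
  have hp : ∀ (u w y : Fin n → F), y ⬝ᵥ (pl u w).1 *ᵥ y = 2 * ((y ⬝ᵥ u) * (y ⬝ᵥ w)) := by
    intro u w y
    show y ⬝ᵥ (vecMulVec u w + vecMulVec w u) *ᵥ y = _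
    rw [Matrix.add_mulVec, Matrix.vecMulVec_mulVec, Matrix.vecMulVec_mulVec, dotProduct_add]
    simp only [dotProduct_smul, smul_eq_mul, dotProduct_comm w y, dotProduct_comm u y, MulOpposite.smul_eq_mul_unop,
      MulOpposite.unop_op]
    ring
  by_contra hcon
  push Not at hcon
  have hh2 : hh F * 2 = 1 := by
    have := hh_add h2
    linear_combination this
  have h1 : ∀ i j, x i * x j = x0 i * x0 j := by
    intro i j
    by_contra hne
    apply hcon ((x i * x j - x0 i * x0 j)⁻¹ • pl (Pi.single i 1) (Pi.single j 1))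
    rw [qq_smul, qq_smul, ← mul_sub]
    have e : qq (pl (Pi.single i 1) (Pi.single j 1)) x - qq (pl (Pi.single i 1) (Pi.single j 1)) x0 = x i * x j - x0 i * x0 j := by
      simp only [qq, hp, dotProduct_single, mul_one]
      linear_combination (x i * x j - x0 i * x0 j) * hh2
    rw [e]
    exact inv_mul_cancel₀ (sub_ne_zero.mpr hne)
  have h3 : x0 ≠ 0 := by
    intro h0
    subst h0
    have : x = 0 := by
      funext i
      have := h1 i i
      simpa using this
    exact hx0 this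
  obtain ⟨i, hi⟩ : ∃ i, x0 i ≠ 0 := by
    by_contra hcon2
    push Not at hcon2
    exact h3 (funext hcon2)
  have h4 : (x i - x0 i) * (x i + x0 i) = 0 := by
    linear_combination h1 i i
  rcases mul_eq_zero.mp h4 with h5 | h5
  · apply hx0
    funext j
    have h6 := h1 i j
    have h7 : x i = x0 i := sub_eq_zero.mp h5
    rw [h7] at h6
    exact mul_left_cancel₀ hi h6
  · apply hx1
    funext j
    have h6 := h1 i j
    have h7 : x i = - x0 i := eq_neg_of_add_eq_zero_left h5
    rw [h7] at h6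
    have h8 : x0 i * (x j + x0 j) = 0 := by
      linear_combination (-1 : F) * h6
    have h9 := (mul_eq_zero.mp h8).resolve_left hi
    simp only [Pi.neg_apply]
    exact eq_neg_of_add_eq_zero_left h9

/-- The orthogonality relation on the symmetric matrices. -/
lemma sum_sep {x x0 : Fin n → F} (hx0 : x ≠ x0) (hx1 : x ≠ -x0) : ∑ B : SymM F n, ψ (qq B x - qq B x0) = 0 := by
  obtain ⟨B1, hB1⟩ := exists_sep ψ h2 hψ hx0 hx1
  have h := Equiv.sum_comp (Equiv.addRight B1) (fun B : SymM F n => ψ (qq B x - qq B x0))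
  have h3 : ∀ B : SymM F n, ψ (qq (Equiv.addRight B1 B) x - qq (Equiv.addRight B1 B) x0) = ψ (qq B x - qq B x0) * ψ 1 := by
    intro B
    rw [← AddChar.map_add_eq_mul, ← hB1]
    simp only [Equiv.coe_addRight, qq_add_left]
    congr 1
    ring
  simp only [h3, ← Finset.sum_mul] at h
  have h4 : (∑ B : SymM F n, ψ (qq B x - qq B x0)) * (ψ 1 - 1) = 0 := by
    linear_combination h
  exact (mul_eq_zero.mp h4).resolve_right (sub_ne_zero.mpr hψ)

/-- **The irreducibility of the odd part.** -/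
theorem core (hn : 2 ≤ n) (N : Submodule ℂ (WS F n)) (hN : N ≤ SM F n)
    (hinv : ∀ t : EE (F := F) (n := n) ψ, ∀ φ ∈ N, t.1.2 φ ∈ N) (hne : N ≠ ⊥) : SM F n ≤ N := by
  obtain ⟨f, hfN, hf0⟩ := (Submodule.ne_bot_iff N).mp hne
  obtain ⟨x0, hx0⟩ : ∃ x0, f x0 ≠ 0 := by
    by_contra hcon
    push Not at hcon
    exact hf0 (funext hcon)
  have hodd := hN hfN
  have hx00 : x0 ≠ 0 := by
    rintro rfl
    have h3 := hodd 0
    rw [neg_zero] at h3
    apply hx0
    have h4 : (2 : ℂ) * f 0 = 0 := by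
      linear_combination h3
    simpa using h4
  have hneg : -x0 ≠ x0 := by
    intro h3
    apply hx00
    funext i
    have h4 := congrFun h3 i
    have h5 : (2 : F) * x0 i = 0 := by
      simp only [Pi.neg_apply] at h4
      linear_combination - h4
    exact (mul_eq_zero.mp h5).resolve_left h2
  -- the element `dl x0 - dl (-x0)`
  have h1 : dl x0 - dl (-x0) ∈ N := by
    have hmem : (∑ B : SymM F n, ψ (- qq B x0) • MuE ψ B f) ∈ N := by
      apply Submodule.sum_mem
      intro B _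
      apply Submodule.smul_mem
      exact hinv ⟨(UU (-B), MuE ψ B), MuE_mem ψ h2 B⟩ f hfN
    have he : (∑ B : SymM F n, ψ (- qq B x0) • MuE ψ B f) =
        ((Fintype.card (SymM F n) : ℂ) * f x0) • (dl x0 - dl (-x0)) := by
      funext x
      simp only [Finset.sum_apply, Pi.smul_apply, smul_eq_mul, MuE_apply, Pi.sub_apply, dl_apply]
      have h3 : ∀ B : SymM F n, ψ (- qq B x0) * (ψ (qq B x) * f x) = ψ (qq B x - qq B x0) * f x := by
        intro B
        rw [← mul_assoc, ← AddChar.map_add_eq_mul]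
        congr 2
        ring
      simp only [h3, ← Finset.sum_mul]
      by_cases hx : x = x0
      · subst hx
        have hne' : x ≠ -x := fun h => hneg h.symm
        simp [hne']
      · by_cases hx' : x = -x0
        · subst hx'
          simp [hx, qq_neg, hodd x0]
        · rw [sum_sep ψ h2 hψ hx hx']
          simp [hx, hx']
    rw [he] at hmem
    have hc : (Fintype.card (SymM F n) : ℂ) * f x0 ≠ 0 := by
      apply mul_ne_zero _ hx0
      exact_mod_cast Fintype.card_ne_zero
    exact (Submodule.smul_mem_iff _ hc).mp hmem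
  -- moving it around
  have h3 : ∀ y : Fin n → F, y ≠ 0 → dl y - dl (-y) ∈ N := by
    intro y hy
    obtain ⟨h, hh1⟩ := Cfsg.Agent.Lib.CrossChar.SL.exists_sl_mulVec (ι := Fin n) (F := F) (by simpa using hn) hy hx00
    have hdet : (h.1)ᵀ.det ≠ 0 := by
      rw [Matrix.det_transpose, h.2]
      exact one_ne_zero
    let R : GL (Fin n) F := Matrix.GeneralLinearGroup.mkOfDetNeZero (h.1)ᵀ hdet
    have hR : (R : Matrix (Fin n) (Fin n) F)ᵀ = h.1 := Matrix.transpose_transpose _
    have hinj : ∀ z z' : Fin n → F, h.1 *ᵥ z = h.1 *ᵥ z' → z = z' := by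
      intro z z' hzz
      have h4 : (h⁻¹).1 * h.1 = 1 := congrArg Subtype.val (inv_mul_cancel h)
      have h5 : (h⁻¹).1 *ᵥ (h.1 *ᵥ z) = (h⁻¹).1 *ᵥ (h.1 *ᵥ z') := congrArg _ hzz
      rwa [Matrix.mulVec_mulVec, Matrix.mulVec_mulVec, h4, Matrix.one_mulVec, Matrix.one_mulVec] at h5
    have h4 := hinv ⟨(LL R, TRE R), TRE_mem ψ R⟩ _ h1
    have h5 : TRE R (dl x0 - dl (-x0)) = dl y - dl (-y) := by
      funext z
      rw [TRE_apply, hR]
      simp only [Pi.sub_apply, dl_apply]
      have e1 : (h.1 *ᵥ z = x0) ↔ z = y := by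
        constructor
        · intro e
          exact hinj _ _ (by rw [e, hh1])
        · rintro rfl
          exact hh1
      have e2 : (h.1 *ᵥ z = -x0) ↔ z = -y := by
        constructor
        · intro e
          exact hinj _ _ (by rw [e, Matrix.mulVec_neg, hh1])
        · rintro rfl
          rw [Matrix.mulVec_neg, hh1]
      simp only [e1, e2]
    exact h5 ▸ h4
  -- the odd functions are spanned by those
  intro φ hφ
  have hsum : (∑ y : Fin n → F, φ y • (dl y - dl (-y))) = (2 : ℂ) • φ := by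
    funext z
    simp only [Finset.sum_apply, Pi.smul_apply, smul_eq_mul, Pi.sub_apply, dl_apply, mul_sub, Finset.sum_sub_distrib]
    have e1 : ∑ y : Fin n → F, φ y * (if z = y then (1 : ℂ) else 0) = φ z := by
      simp
    have e2 : ∑ y : Fin n → F, φ y * (if z = -y then (1 : ℂ) else 0) = φ (-z) := by
      rw [Finset.sum_eq_single (-z)]
      · simp
      · intro b _ hb
        have : z ≠ -b := by
          intro h
          apply hb
          rw [h, neg_neg]
        simp [this]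
      · simp
    rw [e1, e2, hφ z]
    ring
  have hmem : (2 : ℂ) • φ ∈ N := by
    rw [← hsum]
    apply Submodule.sum_mem
    intro y _
    apply Submodule.smul_mem
    by_cases hy : y = 0
    · subst hy
      simp
    · exact h3 y hy
  exact (Submodule.smul_mem_iff _ (two_ne_zero)).mp hmem

end Core

end Cfsg.Agent.Lib.Weil.Minus
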