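import Cfsg.Agent.Lib.Weil.Ext

/-!
The group of pairs `(g, T)` with `T` an intertwiner for `g`, its central `ℂˣ`, and the retraction onto this
`ℂˣ` coming from the transfer to the stabiliser of a Lagrangian and the determinant: the Weil representation.
-/

set_option autoImplicit false
set_option linter.unusedSectionVars false
set_option linter.unusedVariables false
set_option linter.unusedSimpArgs false
set_option linter.ambiguousOpen false
set_option linter.style.haveILetI false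

namespace Cfsg.Agent.Lib.Weil.Rep

open Module Matrix Cfsg.Agent.Lib.WtSpace.Basic Cfsg.Agent.Lib.Weil.Basic Cfsg.Agent.Lib.Weil.Ext
open Cfsg.Agent.Lib.SpDeg.Main
open scoped _root_.Classical

universe u

variable {F : Type u} [Field F] [Fintype F] {n : ℕ}

variable (ψ : AddChar F ℂ)

/-- The pairs `(g, T)`. -/
def EE : Subgroup (Matrix.symplecticGroup (Fin n) F × (WS F n ≃ₗ[ℂ] WS F n)) where
  carrier := {t | ∀ v φ, t.2 (rr ψ v φ) = rr ψ (t.1.1 *ᵥ v) (t.2 φ)}
  mul_mem' := by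
    intro a b ha hb v φ
    show a.2 (b.2 (rr ψ v φ)) = rr ψ ((a.1.1 * b.1.1) *ᵥ v) (a.2 (b.2 φ))
    rw [hb, ha, Matrix.mulVec_mulVec]
  one_mem' := by
    intro v φ
    show rr ψ v φ = rr ψ ((1 : Matrix _ _ F) *ᵥ v) φ
    rw [Matrix.one_mulVec]
  inv_mem' := by
    intro a ha v φ
    show a.2.symm (rr ψ v φ) = rr ψ ((a.1⁻¹).1 *ᵥ v) (a.2.symm φ)
    apply a.2.injective
    rw [ha, LinearEquiv.apply_symm_apply, LinearEquiv.apply_symm_apply, Matrix.mulVec_mulVec]
    have : a.1.1 * (a.1⁻¹).1 = 1 := congrArg Subtype.val (mul_inv_cancel a.1)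
    rw [this, Matrix.one_mulVec]

lemma mem_EE {t : Matrix.symplecticGroup (Fin n) F × (WS F n ≃ₗ[ℂ] WS F n)} :
    t ∈ EE ψ ↔ ∀ v φ, t.2 (rr ψ v φ) = rr ψ (t.1.1 *ᵥ v) (t.2 φ) := Iff.rfl

/-- The projection. -/
def pr : EE (F := F) (n := n) ψ →* Matrix.symplecticGroup (Fin n) F :=
  (MonoidHom.fst _ _).comp (EE ψ).subtype

/-- The preimage of the stabiliser of the Lagrangian. -/
def HH : Subgroup (EE (F := F) (n := n) ψ) := (PP F n).comap (pr ψ)

variable (h2 : (2 : F) ≠ 0) (hψ : ψ 1 ≠ 1)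

include h2 hψ

lemma pr_surj : Function.Surjective (pr (F := F) (n := n) ψ) := by
  intro g
  obtain ⟨T, hT⟩ := exists_T ψ h2 hψ g
  exact ⟨⟨(g, T), hT⟩, rfl⟩

lemma index_HH : (HH (F := F) (n := n) ψ).index = (PP F n).index :=
  Subgroup.index_comap_of_surjective _ (pr_surj ψ h2 hψ)

lemma finiteIndex_HH : (HH (F := F) (n := n) ψ).FiniteIndex := by
  refine ⟨?_⟩
  rw [index_HH ψ h2 hψ]
  exact Subgroup.index_ne_zero_of_finite

/-- The intertwiners for the stabiliser of the Lagrangian fix the line of `dl 0`. -/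
lemma T_dl0 (t : HH (F := F) (n := n) ψ) :
    t.1.1.2 (dl 0) = (t.1.1.2 (dl 0) 0) • dl 0 := by
  set g := t.1.1.1 with hg
  set T := t.1.1.2 with hT
  have hmem : ∀ v φ, T (rr ψ v φ) = rr ψ (g.1 *ᵥ v) (T φ) := t.1.2
  have hgP : g ∈ PP F n := t.2
  have h1 : ∀ y : Fin n → F, y ≠ 0 → T (dl 0) y = 0 := by
    intro y hy
    obtain ⟨i, hi⟩ : ∃ i, y i ≠ 0 := by
      by_contra hcon
      push Not at hcon
      exact hy (funext hcon)
    let a : Fin n → F := Pi.single i (y i)⁻¹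
    have ha : y ⬝ᵥ a = 1 := by
      rw [dotProduct_single]
      exact mul_inv_cancel₀ hi
    let u : WV F n := (g⁻¹).1 *ᵥ inL a
    have hu : wb u = 0 := by
      have := (mem_PP.mp ((PP F n).inv_mem hgP)) (inL a)
      exact this.mp rfl
    have hu2 : g.1 *ᵥ u = inL a := by
      show g.1 *ᵥ ((g⁻¹).1 *ᵥ inL a) = inL a
      rw [Matrix.mulVec_mulVec]
      have : g.1 * (g⁻¹).1 = 1 := congrArg Subtype.val (mul_inv_cancel g)
      rw [this, Matrix.one_mulVec]
    have hu3 : u = inL (wa u) := by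
      conv_lhs => rw [v_eq u, hu, inR_zero, add_zero]
    have h3 := hmem u (dl 0)
    rw [hu2, hu3, rr_inL_dl0] at h3
    have h4 := congrFun h3 y
    rw [rr_inL_apply, ha] at h4
    have h5 : T (dl 0) y * (ψ 1 - 1) = 0 := by
      linear_combination (-1 : ℂ) * h4
    exact (mul_eq_zero.mp h5).resolve_right (sub_ne_zero.mpr hψ)
  funext y
  by_cases hy : y = 0
  · subst hy
    simp [dl_apply]
  · simp [h1 y hy, dl_apply, hy]

/-- The eigenvalue on `dl 0`. -/
noncomputable def phi0 : HH (F := F) (n := n) ψ →* ℂ where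
  toFun t := t.1.1.2 (dl 0) 0
  map_one' := by
    show (dl (0 : Fin n → F)) 0 = 1
    simp [dl_apply]
  map_mul' := by
    intro s t
    show s.1.1.2 (t.1.1.2 (dl 0)) 0 = _
    rw [T_dl0 ψ h2 hψ t, map_smul, T_dl0 ψ h2 hψ s]
    simp [dl_apply]
    ring

/-- The character on the preimage of the stabiliser. -/
noncomputable def phi : HH (F := F) (n := n) ψ →* ℂˣ := (phi0 ψ h2 hψ).toHomUnits

omit h2 hψ in
/-- The central scalars. -/
noncomputable def zc (c : ℂˣ) : EE (F := F) (n := n) ψ :=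
  ⟨(1, LinearEquiv.smulOfUnit c), by
    intro v φ
    show c • rr ψ v φ = rr ψ ((1 : Matrix _ _ F) *ᵥ v) (c • φ)
    rw [Matrix.one_mulVec, LinearMap.map_smul_of_tower]⟩

omit h2 hψ in
lemma zc_T (c : ℂˣ) (φ : WS F n) : (zc ψ c).1.2 φ = (c : ℂ) • φ := rfl

omit h2 hψ in
lemma zc_central (c : ℂˣ) (t : EE (F := F) (n := n) ψ) : t * zc ψ c = zc ψ c * t := by
  apply Subtype.ext
  refine Prod.ext ?_ ?_
  · show t.1.1 * 1 = 1 * t.1.1
    simp
  · apply LinearEquiv.ext
    intro φ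
    show t.1.2 ((c : ℂ) • φ) = (c : ℂ) • t.1.2 φ
    rw [map_smul]

omit h2 hψ in
lemma zc_pow (c : ℂˣ) (k : ℕ) : zc ψ c ^ k = zc (F := F) (n := n) ψ (c ^ k) := by
  induction k with
  | zero =>
    apply Subtype.ext
    refine Prod.ext rfl ?_
    apply LinearEquiv.ext
    intro φ
    show φ = ((c ^ 0 : ℂˣ) : ℂ) • φ
    simp
  | succ k ih =>
    rw [pow_succ, ih]
    apply Subtype.ext
    refine Prod.ext ?_ ?_
    · show (1 : Matrix.symplecticGroup (Fin n) F) * 1 = 1
      simp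
    · apply LinearEquiv.ext
      intro φ
      show ((c ^ k : ℂˣ) : ℂ) • ((c : ℂ) • φ) = ((c ^ (k + 1) : ℂˣ) : ℂ) • φ
      rw [smul_smul, pow_succ]
      simp

/-- The transfer on the scalars. -/
lemma transfer_zc [(HH (F := F) (n := n) ψ).FiniteIndex] (c : ℂˣ) :
    ((phi (F := F) (n := n) ψ h2 hψ).transfer) (zc ψ c) = c ^ (PP F n).index := by
  rw [MonoidHom.transfer_eq_pow (phi ψ h2 hψ) (zc ψ c) (by
    intro k g₀ _
    have h1 : zc ψ c ^ k * g₀ = g₀ * zc ψ c ^ k := by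
      rw [zc_pow]
      exact (zc_central ψ _ g₀).symm
    rw [mul_assoc, h1, inv_mul_cancel_left])]
  apply Units.ext
  show ((zc ψ c ^ (HH ψ).index).1.2 (dl 0)) 0 = _
  rw [zc_pow, zc_T, index_HH ψ h2 hψ]
  simp [dl_apply]

omit h2 hψ in
/-- The determinant. -/
noncomputable def detE : EE (F := F) (n := n) ψ →* ℂˣ :=
  (LinearEquiv.det (R := ℂ) (M := WS F n)).comp ((MonoidHom.snd _ _).comp (EE ψ).subtype)

omit h2 hψ in
lemma det_zc (c : ℂˣ) : detE ψ (zc (F := F) (n := n) ψ c) = c ^ Fintype.card (Fin n → F) := by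
  apply Units.ext
  show ((LinearEquiv.det (LinearEquiv.smulOfUnit c : WS F n ≃ₗ[ℂ] WS F n) : ℂˣ) : ℂ) = _
  rw [LinearEquiv.coe_det]
  have : ((LinearEquiv.smulOfUnit c : WS F n ≃ₗ[ℂ] WS F n) : WS F n →ₗ[ℂ] WS F n) = (c : ℂ) • LinearMap.id := by
    ext φ x
    rfl
  rw [this, LinearMap.det_smul, LinearMap.det_id, Module.finrank_fintype_fun_eq_card]
  simp

/-- The coprimality. -/
lemma coprime_index : Nat.Coprime (PP F n).index (Fintype.card (Fin n → F)) := by
  obtain ⟨p, hp⟩ := CharP.exists F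
  obtain ⟨f, hpp, hq⟩ := FiniteField.card F p
  haveI : Fact p.Prime := ⟨hpp⟩
  have h1 := index_modEq (F := F) (n := n) (p := p)
  have h3 : Nat.Coprime (PP F n).index p := by
    rw [Nat.coprime_comm, Nat.Prime.coprime_iff_not_dvd hpp]
    intro hd
    have h4 : (PP F n).index % p = 0 := Nat.mod_eq_zero_of_dvd hd
    have h5 : 1 % p = (PP F n).index % p := h1.symm
    rw [h4, Nat.mod_eq_of_lt hpp.one_lt] at h5
    exact one_ne_zero h5
  rw [Fintype.card_fun, Fintype.card_fin, hq, ← pow_mul]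
  exact Nat.Coprime.pow_right _ h3

/-- The retraction. -/
theorem exists_retraction : ∃ Θ : EE (F := F) (n := n) ψ →* ℂˣ, ∀ c : ℂˣ, Θ (zc ψ c) = c := by
  haveI hfi := finiteIndex_HH (F := F) (n := n) ψ h2 hψ
  have hcop := coprime_index (F := F) (n := n) ψ h2 hψ
  set m := (PP F n).index with hm
  set d := Fintype.card (Fin n → F) with hd
  have hgcd : (m : ℤ) * Nat.gcdA m d + (d : ℤ) * Nat.gcdB m d = 1 := by
    have := Nat.gcd_eq_gcd_ab m d
    rw [hcop] at this
    simpa using this.symm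
  set a := Nat.gcdA m d
  set b := Nat.gcdB m d
  refine ⟨{ toFun := fun t => (((phi ψ h2 hψ).transfer) t) ^ a * (detE ψ t) ^ b
            map_one' := by simp
            map_mul' := by
              intro s t
              simp only [map_mul, mul_zpow]
              exact mul_mul_mul_comm _ _ _ _ }, ?_⟩
  intro c
  show (((phi ψ h2 hψ).transfer) (zc ψ c)) ^ a * (detE ψ (zc ψ c)) ^ b = c
  have hgcd' : (((PP F n).index : ℕ) : ℤ) * a + ((Fintype.card (Fin n → F) : ℕ) : ℤ) * b = 1 := hgcd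
  rw [transfer_zc ψ h2 hψ, det_zc, ← zpow_natCast, ← zpow_natCast, ← _root_.zpow_mul, ← _root_.zpow_mul, ← _root_.zpow_add, hgcd', zpow_one]

/-- **The Weil representation**, as a projective-to-linear lift. -/
theorem exists_weil : ∃ τ : Matrix.symplecticGroup (Fin n) F →* Module.End ℂ (WS F n),
    ∀ t : EE (F := F) (n := n) ψ, ∃ c : ℂˣ, (t.1.2 : Module.End ℂ (WS F n)) = (c : ℂ) • τ t.1.1 := by
  obtain ⟨Θ, hΘ⟩ := exists_retraction (F := F) (n := n) ψ h2 hψ
  choose TT hTT using fun g : Matrix.symplecticGroup (Fin n) F => exists_T ψ h2 hψ g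
  let sec : Matrix.symplecticGroup (Fin n) F → EE (F := F) (n := n) ψ := fun g => ⟨(g, TT g), hTT g⟩
  let τ0 : Matrix.symplecticGroup (Fin n) F → Module.End ℂ (WS F n) :=
    fun g => (((Θ (sec g))⁻¹ : ℂˣ) : ℂ) • ((TT g : WS F n ≃ₗ[ℂ] WS F n) : Module.End ℂ (WS F n))
  -- independence of the choice
  have hind : ∀ t : EE (F := F) (n := n) ψ, τ0 t.1.1 = (((Θ t)⁻¹ : ℂˣ) : ℂ) • (t.1.2 : Module.End ℂ (WS F n)) := by
    intro t
    set g := t.1.1 with hg
    -- the operator `t.2 * (TT g)⁻¹` is scalar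
    let Y : Module.End ℂ (WS F n) := ((t.1.2.trans (TT g).symm : WS F n ≃ₗ[ℂ] WS F n) : Module.End ℂ (WS F n))
    have hY : ∀ φ, Y φ = (TT g).symm (t.1.2 φ) := fun φ => rfl
    have hcomm : ∀ v, Y * rr ψ v = rr ψ v * Y := by
      intro v
      apply LinearMap.ext
      intro φ
      show Y (rr ψ v φ) = rr ψ v (Y φ)
      rw [hY, hY, t.2 v φ]
      apply (TT g).injective
      rw [LinearEquiv.apply_symm_apply, hTT g v, LinearEquiv.apply_symm_apply]
    obtain ⟨c, hc⟩ := commutant ψ h2 hψ Y hcomm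
    have hc0 : c ≠ 0 := by
      intro h0
      rw [h0, zero_smul] at hc
      have h3 : t.1.2 (dl 0) = 0 := by
        have h4 := LinearMap.congr_fun hc (dl 0)
        rw [hY] at h4
        have h5 := congrArg (TT g) h4
        rw [LinearEquiv.apply_symm_apply] at h5
        simpa using h5
      exact dl_ne 0 (t.1.2.injective (by rw [h3, map_zero]))
    have ht : t = zc ψ (Units.mk0 c hc0) * sec g := by
      apply Subtype.ext
      refine Prod.ext ?_ ?_
      · show t.1.1 = 1 * g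
        rw [one_mul]
      · apply LinearEquiv.ext
        intro φ
        show t.1.2 φ = c • TT g φ
        have h4 := LinearMap.congr_fun hc φ
        rw [hY] at h4
        have h5 := congrArg (TT g) h4
        rw [LinearEquiv.apply_symm_apply] at h5
        rw [h5]
        show TT g (c • φ) = c • TT g φ
        rw [map_smul]
    have hΘt : Θ t = Units.mk0 c hc0 * Θ (sec g) := by
      conv_lhs => rw [ht]
      rw [map_mul, hΘ]
    have hT' : (t.1.2 : Module.End ℂ (WS F n)) = c • ((TT g : WS F n ≃ₗ[ℂ] WS F n) : Module.End ℂ (WS F n)) := by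
      apply LinearMap.ext
      intro φ
      have h4 := LinearMap.congr_fun hc φ
      rw [hY] at h4
      have h5 := congrArg (TT g) h4
      rw [LinearEquiv.apply_symm_apply] at h5
      rw [LinearMap.smul_apply]
      show t.1.2 φ = c • TT g φ
      rw [h5]
      show TT g (c • φ) = c • TT g φ
      rw [map_smul]
    rw [hΘt, hT', smul_smul]
    show _ = _
    have hu : (((Units.mk0 c hc0 * Θ (sec g))⁻¹ : ℂˣ) : ℂ) * c = (((Θ (sec g))⁻¹ : ℂˣ) : ℂ) := by
      rw [mul_inv, Units.val_mul, Units.val_inv_eq_inv_val (Units.mk0 c hc0)]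
      simp only [Units.val_mk0]
      field_simp
    rw [hu]
  refine ⟨{ toFun := τ0
            map_one' := ?_
            map_mul' := ?_ }, ?_⟩
  · have h3 := hind 1
    have h4 : ((1 : EE (F := F) (n := n) ψ).1.1) = 1 := rfl
    rw [h4] at h3
    rw [h3, map_one]
    simp
    rfl
  · intro g h
    have h3 := hind (sec g * sec h)
    have h4 : ((sec g * sec h).1.1) = g * h := rfl
    rw [h4] at h3
    rw [h3, map_mul]
    show _ = ((((Θ (sec g))⁻¹ : ℂˣ) : ℂ) • ((TT g : WS F n ≃ₗ[ℂ] WS F n) : Module.End ℂ (WS F n))) *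
      (((Θ (sec h))⁻¹ : ℂˣ) : ℂ) • ((TT h : WS F n ≃ₗ[ℂ] WS F n) : Module.End ℂ (WS F n))
    rw [smul_mul_assoc, mul_smul_comm, smul_smul, mul_inv, Units.val_mul, mul_comm]
    rfl
  · intro t
    refine ⟨Θ t, ?_⟩
    show _ = ((Θ t : ℂˣ) : ℂ) • τ0 t.1.1
    rw [hind t, smul_smul, ← Units.val_mul, mul_inv_cancel, Units.val_one, one_smul]

end Cfsg.Agent.Lib.Weil.Rep
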